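import Groth.Agent.CSA.Azumaya
import Mathlib

/-! Corners of Azumaya algebras. -/

set_option autoImplicit false
set_option linter.style.haveILetI false

open TensorProduct MulOpposite

universe u v w

namespace Groth.Agent.AzCorner

variable {R : Type u} [CommRing R] {A : Type v} [Ring A] [Algebra R A]

/-- `r ↦ r • e` -/
noncomputable def cornerHom {e : A} (he : IsIdempotentElem e) : R →+* he.Corner where
  toFun r := ⟨r • e, r • e, by
    show e * (r • e) * e = r • e
    rw [mul_smul_comm, smul_mul_assoc, he.eq, he.eq]⟩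
  map_one' := Subtype.ext (one_smul R e)
  map_mul' r s := Subtype.ext (by
    show (r * s) • e = (r • e) * (s • e)
    rw [smul_mul_smul_comm, he.eq])
  map_zero' := Subtype.ext (zero_smul R e)
  map_add' r s := Subtype.ext (add_smul r s e)

theorem corner_left {e : A} (he : IsIdempotentElem e) (x : he.Corner) : e * x.1 = x.1 :=
  ((Subsemigroup.mem_corner_iff he).mp x.2).1

theorem corner_right {e : A} (he : IsIdempotentElem e) (x : he.Corner) : x.1 * e = x.1 :=
  ((Subsemigroup.mem_corner_iff he).mp x.2).2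

noncomputable instance cornerAlgebra {e : A} (he : IsIdempotentElem e) : Algebra R he.Corner :=
  RingHom.toAlgebra' (cornerHom he) fun r x => Subtype.ext (by
    show (r • e) * x.1 = x.1 * (r • e)
    rw [smul_mul_assoc, mul_smul_comm, corner_left, corner_right])

theorem corner_smul {e : A} (he : IsIdempotentElem e) (r : R) (x : he.Corner) :
    (r • x).1 = r • x.1 := by
  rw [Algebra.smul_def]
  show (r • e) * x.1 = _
  rw [smul_mul_assoc, corner_left]

/-- inclusion of the corner -/
noncomputable def iC {e : A} (he : IsIdempotentElem e) : he.Corner →ₗ[R] A where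
  toFun x := x.1
  map_add' _ _ := rfl
  map_smul' r x := corner_smul he r x

/-- projection to the corner -/
noncomputable def pC {e : A} (he : IsIdempotentElem e) : A →ₗ[R] he.Corner where
  toFun x := ⟨e * x * e, x, rfl⟩
  map_add' x y := Subtype.ext (by
    show e * (x + y) * e = e * x * e + e * y * e
    simp only [mul_add, add_mul])
  map_smul' r x := Subtype.ext (by
    rw [RingHom.id_apply, corner_smul]
    show e * (r • x) * e = r • (e * x * e)
    rw [mul_smul_comm, smul_mul_assoc])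

theorem iC_pC {e : A} (he : IsIdempotentElem e) (x : A) : iC (R := R) he (pC (R := R) he x) = e * x * e := rfl

theorem pC_iC {e : A} (he : IsIdempotentElem e) (x : he.Corner) : pC (R := R) he (iC (R := R) he x) = x :=
  Subtype.ext (by show e * x.1 * e = x.1; rw [corner_left, corner_right])

theorem iC_mul {e : A} (he : IsIdempotentElem e) (x y : he.Corner) :
    iC (R := R) he x * iC (R := R) he y = iC (R := R) he (x * y) := rfl

theorem iC_one {e : A} (he : IsIdempotentElem e) : iC (R := R) he 1 = e := rfl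

section Mu
variable {B : Type v} [Ring B] [Algebra R B] {C : Type v} [Ring C] [Algebra R C] {X : Type v}
  [AddCommGroup X] [Module R X]

/-- corners of an Azumaya algebra: `eAe ⊗ (fAf)ᵒᵖ ≅ End (eAf)` -/
theorem exists_algEquiv_end [IsAzumaya R A] (iB : B →ₗ[R] A) (pB : A →ₗ[R] B) (iX : X →ₗ[R] A)
    (pX : A →ₗ[R] X) (iC : C →ₗ[R] A) (pC : A →ₗ[R] C)
    (hB : ∀ b, pB (iB b) = b) (hBm : ∀ a b, iB a * iB b = iB (a * b))
    (hB' : ∀ x, iB (pB x) = iB 1 * x * iB 1)
    (hC : ∀ c, pC (iC c) = c) (hCm : ∀ a b, iC a * iC b = iC (a * b))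
    (hC' : ∀ x, iC (pC x) = iC 1 * x * iC 1)
    (hX : ∀ x, pX (iX x) = x) (hX' : ∀ x, iX (pX x) = iB 1 * x * iC 1) :
    ∃ ν : B ⊗[R] Cᵐᵒᵖ ≃ₐ[R] Module.End R X,
      ∀ b c x, iX (ν (b ⊗ₜ op c) x) = iB b * iX x * iC c := by
  have hB1 : ∀ b, iB 1 * iB b = iB b := fun b => by rw [hBm, one_mul]
  have hB2 : ∀ b, iB b * iB 1 = iB b := fun b => by rw [hBm, mul_one]
  have hC1 : ∀ b, iC 1 * iC b = iC b := fun b => by rw [hCm, one_mul]
  have hC2 : ∀ b, iC b * iC 1 = iC b := fun b => by rw [hCm, mul_one]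
  have hX1 : ∀ x, iB 1 * iX x * iC 1 = iX x := fun x => by rw [← hX', hX]
  let μ : A ⊗[R] Aᵐᵒᵖ ≃ₐ[R] Module.End R A :=
    AlgEquiv.ofBijective (AlgHom.mulLeftRight R A) IsAzumaya.bij
  let J : B ⊗[R] Cᵐᵒᵖ →ₗ[R] A ⊗[R] Aᵐᵒᵖ := TensorProduct.map iB
    ((opLinearEquiv R).toLinearMap ∘ₗ iC ∘ₗ (opLinearEquiv R).symm.toLinearMap)
  let K : A ⊗[R] Aᵐᵒᵖ →ₗ[R] B ⊗[R] Cᵐᵒᵖ := TensorProduct.map pB
    ((opLinearEquiv R).toLinearMap ∘ₗ pC ∘ₗ (opLinearEquiv R).symm.toLinearMap)
  let e' : A ⊗[R] Aᵐᵒᵖ := iB 1 ⊗ₜ op (iC 1)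
  have hKJ : ∀ t, K (J t) = t := fun t => by
    induction t using TensorProduct.induction_on with
    | zero => simp
    | tmul b c => simp [J, K, hB, hC]
    | add x y hx hy => simp only [map_add, hx, hy]
  have hJK : ∀ s, J (K s) = e' * s * e' := fun s => by
    induction s using TensorProduct.induction_on with
    | zero => simp
    | tmul a c =>
      simp [J, K, e', hB', hC', Algebra.TensorProduct.tmul_mul_tmul, ← op_mul, mul_assoc]
      rw [← op_unop c, ← op_mul, ← op_mul, mul_assoc]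
      rfl
    | add x y hx hy => simp only [map_add, mul_add, add_mul, hx, hy]
  let ν₀ : B ⊗[R] Cᵐᵒᵖ →ₗ[R] Module.End R X :=
    (LinearMap.llcomp R X A X pX) ∘ₗ (LinearMap.lcomp R A iX) ∘ₗ μ.toLinearMap ∘ₗ J
  have hν₀ : ∀ b c x, ν₀ (b ⊗ₜ op c) x = pX (iB b * iX x * iC c) := fun b c x => by
    simp [ν₀, μ, J, mul_assoc]
  have hν : ∀ b c x, iX (ν₀ (b ⊗ₜ op c) x) = iB b * iX x * iC c := fun b c x => by
    rw [hν₀, hX', ← mul_assoc, ← mul_assoc, hB1, mul_assoc _ (iC c), hC2]
  let ν : B ⊗[R] Cᵐᵒᵖ →ₐ[R] Module.End R X :=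
    Algebra.TensorProduct.algHomOfLinearMapTensorProduct ν₀
      (fun b₁ b₂ c₁ c₂ => LinearMap.ext fun x => by
        have injX : Function.Injective iX := Function.LeftInverse.injective hX
        obtain ⟨c₁, rfl⟩ : ∃ c, op c = c₁ := ⟨_, op_unop c₁⟩
        obtain ⟨c₂, rfl⟩ : ∃ c, op c = c₂ := ⟨_, op_unop c₂⟩
        apply injX
        rw [Module.End.mul_apply, hν, hν, ← op_mul, hν, ← hBm, ← hCm]
        simp only [mul_assoc])
      (LinearMap.ext fun x => by
        rw [show (1 : Cᵐᵒᵖ) = op 1 from rfl]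
        apply Function.LeftInverse.injective hX
        rw [hν, hX1]; rfl)
  have hμJ : ∀ t, μ (J t) = iX ∘ₗ ν₀ t ∘ₗ pX := fun t => by
    induction t using TensorProduct.induction_on with
    | zero => simp
    | tmul b c =>
      obtain ⟨c, rfl⟩ : ∃ d, op d = c := ⟨_, op_unop c⟩
      refine LinearMap.ext fun x => ?_
      rw [LinearMap.comp_apply, LinearMap.comp_apply, hν, hX', ← mul_assoc, ← mul_assoc, hB2,
        mul_assoc _ (iC 1), hC1]
      simp [μ, J, mul_assoc]
    | add x y hx hy => simp only [map_add, hx, hy, LinearMap.add_comp, LinearMap.comp_add]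
  have hbij : Function.Bijective ν := by
    constructor
    · intro s t hst
      replace hst : ν₀ s = ν₀ t := hst
      rw [← hKJ s, ← hKJ t, μ.injective (show μ (J s) = μ (J t) by rw [hμJ, hμJ, hst])]
    · intro T
      refine ⟨K (μ.symm (iX ∘ₗ T ∘ₗ pX)), ?_⟩
      show ν₀ _ = T
      have he' : μ e' = iX ∘ₗ pX := LinearMap.ext fun x => by simp [μ, e', hX', mul_assoc]
      refine LinearMap.ext fun x => ?_
      show pX (μ (J (K _)) (iX x)) = T x
      rw [hJK, map_mul, map_mul, AlgEquiv.apply_symm_apply, he']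
      simp [hX]
  exact ⟨AlgEquiv.ofBijective ν hbij, hν⟩

end Mu

/-- a module which is faithful as soon as its rank is positive -/
theorem faithfulSMul_of_rankAtStalk_pos (P : Type w) [AddCommGroup P] [Module R P] [Module.Finite R P]
    [Module.Projective R P] (h : ∀ p : PrimeSpectrum R, 0 < Module.rankAtStalk (R := R) P p) :
    FaithfulSMul R P := by
  rw [← Module.annihilator_eq_bot]
  refine Submodule.eq_bot_iff _ |>.2 fun r hr => ?_
  obtain ⟨n, p, i, -, -, hpi⟩ := Module.Finite.exists_comp_eq_id_of_projective R P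
  by_contra hr0
  let J : Ideal R := Ideal.span (Set.range fun q : Fin n × Fin n => i (p (Pi.single q.1 1)) q.2)
  have hrJ : ∀ x ∈ J, r * x = 0 := by
    intro x hx
    induction hx using Submodule.span_induction with
    | mem x hx =>
      obtain ⟨⟨a, b⟩, rfl⟩ := hx
      show r * i (p _) b = 0
      rw [← smul_eq_mul, ← Pi.smul_apply, ← map_smul, Module.mem_annihilator.1 hr, map_zero]
      rfl
    | zero => simp
    | add x y _ _ hx hy => rw [mul_add, hx, hy, add_zero]
    | smul c x _ hx => rw [smul_eq_mul, mul_left_comm, hx, mul_zero]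
  have hJ : J ≠ ⊤ := fun hJ => hr0 (by simpa using hrJ 1 (hJ ▸ Submodule.mem_top))
  obtain ⟨m, hm, hJm⟩ := Ideal.exists_le_maximal _ hJ
  have hP : ∀ x : P, x ∈ m • (⊤ : Submodule R P) := fun x => by
    have e1 : x = p (i x) := (LinearMap.congr_fun hpi x).symm
    have e2 : x = ∑ b, i x b • p (Pi.single b 1) := by
      conv_lhs => rw [e1, pi_eq_sum_univ' (i x), map_sum]
      simp
    rw [e2]
    refine Submodule.sum_mem _ fun b _ => Submodule.smul_mem_smul ?_ Submodule.mem_top
    have : ∀ v : Fin n → R, ∀ b, i (p v) b ∈ J := fun v b => by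
      rw [pi_eq_sum_univ' v, map_sum, map_sum, Finset.sum_apply]
      refine Ideal.sum_mem _ fun a _ => ?_
      simp only [map_smul, Pi.smul_apply, smul_eq_mul]
      exact Ideal.mul_mem_left _ _ (Ideal.subset_span ⟨(a, b), rfl⟩)
    have := this (i x) b
    rw [← e1] at this
    exact hJm this
  have := h ⟨m, hm.isPrime⟩
  rw [Module.rankAtStalk_pos_iff_mem_support, Module.mem_support_iff_of_finite] at this
  obtain ⟨a, ha, ha'⟩ := Submodule.exists_sub_one_mem_and_smul_eq_zero_of_fg_of_le_smul m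
    (⊤ : Submodule R P) Module.Finite.fg_top (fun x _ => hP x)
  have : a ∈ m := this (Module.mem_annihilator.2 fun x => ha' x Submodule.mem_top)
  exact hm.ne_top ((Ideal.eq_top_iff_one m).2 (by simpa using m.sub_mem this ha))

end Groth.Agent.AzCorner
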